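/-
Artinian and Noetherian objects and composition series in abelian categories.
-/
import Mathlib.CategoryTheory.Abelian.Refinements
import Mathlib.CategoryTheory.Subobject.ArtinianObject
import Mathlib.CategoryTheory.Subobject.NoetherianObject
import Mathlib.CategoryTheory.Simple
import Mathlib.CategoryTheory.Subobject.Limits
import Mathlib.Algebra.Homology.ShortComplex.ShortExact

set_option autoImplicit false
set_option linter.style.haveILetI false

universe v u

open CategoryTheory CategoryTheory.Limits

namespace FinLenLib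

variable {A : Type u} [Category.{v} A] [Abelian A]

lemma eq_of_pullback_eq_of_image_eq {S : ShortComplex A} (hS : S.ShortExact) {U V : Subobject S.X₂} (hUV : U ≤ V)
    (h₁ : (Subobject.pullback S.f).obj U = (Subobject.pullback S.f).obj V)
    (h₂ : imageSubobject (U.arrow ≫ S.g) = imageSubobject (V.arrow ≫ S.g)) : U = V := by
  haveI := hS.mono_f
  refine le_antisymm hUV ?_
  suffices Epi (Subobject.ofLE U V hUV) by
    haveI := isIso_of_mono_of_epi (Subobject.ofLE U V hUV)
    exact Subobject.le_of_comm (inv (Subobject.ofLE U V hUV)) (by simp)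
  rw [epi_iff_surjective_up_to_refinements]
  intro B y
  have hf : (imageSubobject (U.arrow ≫ S.g)).Factors (y ≫ V.arrow ≫ S.g) := by
    rw [h₂]; exact imageSubobject_factors_comp_self _ y
  obtain ⟨B', π, hπ, x₀, hx₀⟩ := surjective_up_to_refinements_of_epi
    (factorThruImageSubobject (U.arrow ≫ S.g)) (Subobject.factorThru _ _ hf)
  have hd : (π ≫ y ≫ V.arrow - x₀ ≫ U.arrow) ≫ S.g = 0 := by
    have := hx₀ =≫ (imageSubobject (U.arrow ≫ S.g)).arrow
    rw [Category.assoc, Category.assoc, Subobject.factorThru_arrow, imageSubobject_arrow_comp] at this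
    simp [Preadditive.sub_comp, this]
  haveI := hS.exact
  obtain ⟨a, ha⟩ : ∃ a, a ≫ S.f = π ≫ y ≫ V.arrow - x₀ ≫ U.arrow :=
    ⟨hS.exact.lift _ hd, hS.exact.lift_f _ hd⟩
  have haV : ((Subobject.pullback S.f).obj V).Factors a := by
    refine Subobject.factors_iff _ _ |>.2 ⟨(Subobject.isPullback S.f V).lift
      (π ≫ y - x₀ ≫ Subobject.ofLE U V hUV) a (by simp [ha, Preadditive.sub_comp]), ?_⟩
    exact (Subobject.isPullback S.f V).lift_snd _ _ _
  rw [← h₁] at haV
  refine ⟨B', π, hπ, x₀ + Subobject.factorThru _ a haV ≫ Subobject.pullbackπ S.f U, ?_⟩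
  rw [← cancel_mono V.arrow]
  simp [Preadditive.add_comp, (Subobject.isPullback S.f U).w, ha]

/-- The map to the pair of the trace and the image is strictly monotone. -/
lemma strictMono_pair {S : ShortComplex A} (hS : S.ShortExact) :
    StrictMono fun U : Subobject S.X₂ => ((Subobject.pullback S.f).obj U, imageSubobject (U.arrow ≫ S.g)) := by
  intro U V h
  have h₁ : (Subobject.pullback S.f).obj U ≤ (Subobject.pullback S.f).obj V :=
    (Subobject.pullback S.f).monotone h.le
  have h₂ : imageSubobject (U.arrow ≫ S.g) ≤ imageSubobject (V.arrow ≫ S.g) := by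
    rw [← Subobject.ofLE_arrow h.le, Category.assoc]
    exact imageSubobject_comp_le _ _
  refine lt_of_le_of_ne ⟨h₁, h₂⟩ fun e => h.ne ?_
  exact eq_of_pullback_eq_of_image_eq hS h.le (congrArg Prod.fst e) (congrArg Prod.snd e)

lemma isArtinianObject_of_shortExact {S : ShortComplex A} (hS : S.ShortExact) (h₁ : IsArtinianObject S.X₁)
    (h₃ : IsArtinianObject S.X₃) : IsArtinianObject S.X₂ :=
  ⟨⟨Subrelation.wf (fun {U V} h => strictMono_pair hS h) (InvImage.wf _ wellFounded_lt)⟩⟩

lemma isNoetherianObject_of_shortExact {S : ShortComplex A} (hS : S.ShortExact) (h₁ : IsNoetherianObject S.X₁)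
    (h₃ : IsNoetherianObject S.X₃) : IsNoetherianObject S.X₂ :=
  ⟨⟨Subrelation.wf (fun {U V} h => strictMono_pair hS h) (InvImage.wf _ wellFounded_gt)⟩⟩

lemma artinian_noetherian_of_simple (X : A) [Simple X] : IsArtinianObject X ∧ IsNoetherianObject X := by
  haveI : IsSimpleOrder (Subobject X) := (simple_iff_subobject_isSimpleOrder X).1 inferInstance
  classical
  haveI : Finite (Subobject X) := Finite.of_equiv _ IsSimpleOrder.equivBool.symm
  exact ⟨⟨Finite.to_wellFoundedLT⟩, ⟨Finite.to_wellFoundedGT⟩⟩

/-- A covering pair of subobjects has simple quotient. -/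
lemma simple_cokernel_of_covBy {X : A} {V U : Subobject X} (h : V ⋖ U) :
    Simple (cokernel (Subobject.ofLE V U h.le)) := by
  refine ⟨fun {K} m _ => ⟨fun hm hz => ?_, fun hm => ?_⟩⟩
  · -- nonzero
    subst hz
    haveI : IsIso (0 : K ⟶ cokernel (Subobject.ofLE V U h.le)) := hm
    have h0 : cokernel.π (Subobject.ofLE V U h.le) = 0 :=
      (IsZero.eq_of_tgt ((IsZero.iff_id_eq_zero _).2 (by rw [← IsIso.inv_hom_id (0 : K ⟶ cokernel (Subobject.ofLE V U h.le))]; simp)) _ _)
    haveI : Epi (Subobject.ofLE V U h.le) := Preadditive.epi_of_cokernel_zero h0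
    haveI := isIso_of_mono_of_epi (Subobject.ofLE V U h.le)
    exact h.lt.not_ge (Subobject.le_of_comm (inv (Subobject.ofLE V U h.le)) (by simp))
  · let p := pullback.snd m (cokernel.π (Subobject.ofLE V U h.le))
    let W := Subobject.mk (p ≫ U.arrow)
    have hVW : V ≤ W := Subobject.le_mk_of_comm
      (pullback.lift 0 (Subobject.ofLE V U h.le) (by simp)) (by simp [p, pullback.lift_snd_assoc])
    have hWU : W ≤ U := Subobject.mk_le_of_comm p rfl
    rcases hVW.eq_or_lt with e | hlt
    · exfalso
      refine hm ?_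
      have hp : ∃ t, t ≫ Subobject.ofLE V U h.le = p := by
        have hfac : V.Factors (p ≫ U.arrow) := by
          refine Subobject.factors_of_le (p ≫ U.arrow) e.ge ?_
          exact (Subobject.factors_iff W (p ≫ U.arrow)).2 ⟨(Subobject.underlyingIso (p ≫ U.arrow)).inv,
            Subobject.underlyingIso_arrow _⟩
        obtain ⟨t, ht⟩ := (Subobject.factors_iff V (p ≫ U.arrow)).1 hfac
        exact ⟨t, by rw [← cancel_mono U.arrow, Category.assoc, Subobject.ofLE_arrow]; exact ht⟩
      obtain ⟨t, ht⟩ := hp
      rw [← cancel_epi (pullback.fst m (cokernel.π (Subobject.ofLE V U h.le))), comp_zero, pullback.condition]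
      change p ≫ _ = 0
      rw [← ht, Category.assoc, cokernel.condition, comp_zero]
    · have e : W = U := hWU.eq_or_lt.resolve_right fun hh => h.2 hlt hh
      haveI : IsIso p := by
        have hU : Subobject.ofLE W U hWU ≫ U.arrow = W.arrow := Subobject.ofLE_arrow _
        have : p = (Subobject.underlyingIso (p ≫ U.arrow)).inv ≫ Subobject.ofLE W U hWU := by
          rw [← cancel_mono U.arrow, Category.assoc, hU, Subobject.underlyingIso_arrow]
        rw [this]
        haveI : IsIso (Subobject.ofLE W U hWU) :=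
          ⟨Subobject.ofLE U W e.ge, by simp [← cancel_mono W.arrow], by simp [← cancel_mono U.arrow]⟩
        infer_instance
      haveI : Epi (pullback.fst m (cokernel.π (Subobject.ofLE V U h.le)) ≫ m) := by
        rw [pullback.condition]; exact inferInstanceAs (Epi (p ≫ _))
      haveI : Epi m := epi_of_epi (pullback.fst m (cokernel.π (Subobject.ofLE V U h.le))) m
      exact isIso_of_mono_of_epi m

end FinLenLib
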